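import Groth.Agent.Lib.EtRamBC29.Root

/-!
# Valuation subrings over the ring of a root of a uniformiser
-/

set_option autoImplicit false

universe u

open IsLocalRing Polynomial

namespace Groth.Agent.EtRamBC29

theorem root_dominates {B : Type u} [CommRing B] [IsDomain B] [IsDiscreteValuationRing B] {M : Type u} [Field M]
    (g : B →+* M) (π : B) (hπ : Irreducible π) (hπ0 : g π ≠ 0) (e : ℕ) (he : 0 < e)
    [IsDomain (AdjoinRoot (X ^ e - C π : B[X]))] [IsDiscreteValuationRing (AdjoinRoot (X ^ e - C π : B[X]))]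
    (j : AdjoinRoot (X ^ e - C π : B[X]) →+* M) (hj : ∀ b, j (algebraMap B _ b) = g b)
    (W : ValuationSubring M) (hW : EtRam.Dominates B g W) : EtRam.Dominates (AdjoinRoot (X ^ e - C π : B[X])) j W := by
  set z := j (AdjoinRoot.root (X ^ e - C π : B[X])) with hz
  have hze : z ^ e = g π := by
    rw [hz, ← map_pow, ← hj]
    congr 1
    have h := AdjoinRoot.eval₂_root (X ^ e - C π : B[X])
    rwa [eval₂_sub, eval₂_pow, eval₂_X, eval₂_C, sub_eq_zero] at h
  have hvπ : W.valuation (g π) < 1 := hW.2 π ((mem_maximalIdeal π).2 hπ.not_isUnit)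
  have hvz : W.valuation z < 1 := by
    rw [← hze, map_pow] at hvπ
    exact (pow_lt_one_iff he.ne').1 hvπ
  have hzW : z ∈ W := (W.valuation_le_one_iff z).1 hvz.le
  have hmem : ∀ w, j w ∈ W := by
    intro w
    obtain ⟨q, rfl⟩ := AdjoinRoot.mk_surjective w
    induction q using Polynomial.induction_on' with
    | add a b ha hb => rw [map_add, map_add]; exact W.add_mem _ _ ha hb
    | monomial n a =>
      rw [← C_mul_X_pow_eq_monomial, map_mul, map_pow, AdjoinRoot.mk_C, AdjoinRoot.mk_X, map_mul, map_pow,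
        ← AdjoinRoot.algebraMap_eq, hj, ← hz]
      exact W.mul_mem _ _ (hW.1 a) (pow_mem hzW n)
  refine ⟨hmem, fun w hw => ?_⟩
  haveI : ((maximalIdeal W).comap (RingHom.codRestrict j W hmem)).IsPrime := Ideal.IsPrime.comap _
  have hne : (maximalIdeal W).comap (RingHom.codRestrict j W hmem) ≠ ⊥ := fun hb => by
    have h1 : AdjoinRoot.root (X ^ e - C π : B[X]) ∈ (maximalIdeal W).comap (RingHom.codRestrict j W hmem) :=
      Ideal.mem_comap.2 ((W.valuation_lt_one_iff _).2 hvz)
    rw [hb, Ideal.mem_bot] at h1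
    have h2 : z = 0 := by rw [hz, h1, map_zero]
    rw [h2, zero_pow he.ne'] at hze
    exact hπ0 hze.symm
  have hmax := eq_maximalIdeal (IsPrime.to_maximal_ideal hne)
  have h1 : w ∈ (maximalIdeal W).comap (RingHom.codRestrict j W hmem) := hmax ▸ hw
  exact (W.valuation_lt_one_iff _).1 (Ideal.mem_comap.1 h1)

theorem weakly_of_bijective {B S : Type u} [CommRing B] [IsLocalRing B] [CommRing S] [IsLocalRing S] [Algebra B S]
    [IsLocalHom (algebraMap B S)] (h : Function.Bijective (algebraMap B S)) :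
    EtRam.IsWeaklyUnramified B S ∧ Algebra.IsSeparable (ResidueField B) (ResidueField S) := by
  refine ⟨le_antisymm (((IsLocalRing.local_hom_TFAE (algebraMap B S)).out 0 2 rfl rfl).1 inferInstance) fun x hx => ?_,
    ⟨fun z => ?_⟩⟩
  · obtain ⟨b, rfl⟩ := h.2 x
    exact Ideal.mem_map_of_mem _ ((mem_maximalIdeal b).2 fun hu => (mem_maximalIdeal _).1 hx (hu.map _))
  · obtain ⟨z, rfl⟩ := residue_surjective z
    obtain ⟨b, rfl⟩ := h.2 z
    exact isSeparable_algebraMap (residue B b)

end Groth.Agent.EtRamBC29
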