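import Groth.Agent.Lib.EtRamBC29.Unram
import Groth.Agent.S1987
import Mathlib.RingTheory.AdjoinRoot

/-!
# Adjoining a root of a uniformiser
-/

set_option autoImplicit false

universe u

open IsLocalRing Polynomial

namespace Groth.Agent.EtRamBC29

variable {A : Type u} [CommRing A] [IsDomain A] [IsDiscreteValuationRing A]

/-- `A[z]/(z^e - π)` is a discrete valuation ring, with ramification index `e` and trivial residue extension. -/
theorem exists_root_dvr (π : A) (hπ : Irreducible π) (e : ℕ) (he : 0 < e) :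
    ∃ (_ : IsDomain (AdjoinRoot (X ^ e - C π : A[X]))) (_ : IsDiscreteValuationRing (AdjoinRoot (X ^ e - C π : A[X]))),
      Function.Injective (algebraMap A (AdjoinRoot (X ^ e - C π : A[X]))) ∧
      IsLocalHom (algebraMap A (AdjoinRoot (X ^ e - C π : A[X]))) ∧
      (maximalIdeal A).map (algebraMap A (AdjoinRoot (X ^ e - C π : A[X]))) = maximalIdeal (AdjoinRoot (X ^ e - C π : A[X])) ^ e ∧
      ∀ [IsLocalHom (algebraMap A (AdjoinRoot (X ^ e - C π : A[X])))],
        Algebra.IsSeparable (ResidueField A) (ResidueField (AdjoinRoot (X ^ e - C π : A[X]))) := by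
  have hmon : (X ^ e - C π : A[X]).Monic := monic_X_pow_sub_C _ he.ne'
  have hinj : Function.Injective (algebraMap A (AdjoinRoot (X ^ e - C π : A[X]))) :=
    AdjoinRoot.of.injective_of_degree_ne_zero (by rw [degree_X_pow_sub_C he]; exact_mod_cast he.ne')
  have key : ∀ (_ : IsDomain (AdjoinRoot (X ^ e - C π : A[X]))) (_ : IsDiscreteValuationRing (AdjoinRoot (X ^ e - C π : A[X]))),
      (maximalIdeal A).map (algebraMap A (AdjoinRoot (X ^ e - C π : A[X]))) = maximalIdeal (AdjoinRoot (X ^ e - C π : A[X])) ^ e →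
      IsLocalHom (algebraMap A (AdjoinRoot (X ^ e - C π : A[X]))) ∧
      ∀ [IsLocalHom (algebraMap A (AdjoinRoot (X ^ e - C π : A[X])))],
        Algebra.IsSeparable (ResidueField A) (ResidueField (AdjoinRoot (X ^ e - C π : A[X]))) := by
    intro _ _ hmap
    refine ⟨((local_hom_TFAE (algebraMap A (AdjoinRoot (X ^ e - C π : A[X])))).out 2 0 rfl rfl).1
      (hmap ▸ Ideal.pow_le_self he.ne'), fun {_} => ⟨fun z => ?_⟩⟩
    obtain ⟨z, rfl⟩ := residue_surjective z
    obtain ⟨g, rfl⟩ := AdjoinRoot.mk_surjective z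
    have hroot : AdjoinRoot.root (X ^ e - C π : A[X]) ∈ maximalIdeal (AdjoinRoot (X ^ e - C π : A[X])) := by
      refine (maximalIdeal.isMaximal _).isPrime.mem_of_pow_mem e (Ideal.pow_le_self he.ne' (hmap ▸ ?_))
      have h := AdjoinRoot.eval₂_root (X ^ e - C π : A[X])
      rw [eval₂_sub, eval₂_pow, eval₂_X, eval₂_C, sub_eq_zero] at h
      rw [h]
      exact Ideal.mem_map_of_mem _ ((mem_maximalIdeal π).2 hπ.not_isUnit)
    have hz : residue (AdjoinRoot (X ^ e - C π : A[X])) (AdjoinRoot.mk _ g) =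
        algebraMap (ResidueField A) _ (residue A (g.coeff 0)) := by
      show _ = residue _ (algebraMap A _ (g.coeff 0))
      rw [← sub_eq_zero, ← map_sub, residue_eq_zero_iff]
      obtain ⟨q, hq⟩ : X ∣ g - C (g.coeff 0) := by simp [X_dvd_iff]
      have hq' := congrArg (AdjoinRoot.mk (X ^ e - C π)) hq
      rw [map_sub, map_mul, AdjoinRoot.mk_C, AdjoinRoot.mk_X] at hq'
      rw [AdjoinRoot.algebraMap_eq, hq']
      exact Ideal.mul_mem_right _ _ hroot
    rw [hz]
    exact isSeparable_algebraMap _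
  rcases eq_or_ne e 1 with rfl | he1
  · have hb : Function.Bijective (algebraMap A (AdjoinRoot (X ^ 1 - C π : A[X]))) := by
      refine ⟨hinj, fun z => ?_⟩
      obtain ⟨g, rfl⟩ := AdjoinRoot.mk_surjective z
      refine ⟨g.eval π, ?_⟩
      rw [AdjoinRoot.algebraMap_eq, ← AdjoinRoot.mk_C, AdjoinRoot.mk_eq_mk, pow_one, dvd_iff_isRoot]
      simp
    let ε := RingEquiv.ofBijective _ hb
    haveI id1 : IsDomain (AdjoinRoot (X ^ 1 - C π : A[X])) := ε.symm.toMulEquiv.isDomain A
    haveI id2 := IsDiscreteValuationRing.RingEquivClass.isDiscreteValuationRing ε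
    have hmap : (maximalIdeal A).map (algebraMap A (AdjoinRoot (X ^ 1 - C π : A[X]))) =
        maximalIdeal (AdjoinRoot (X ^ 1 - C π : A[X])) ^ 1 := by
      refine Eq.trans ?_ (pow_one _).symm
      haveI : ((maximalIdeal A).map (algebraMap A (AdjoinRoot (X ^ 1 - C π : A[X])))).IsMaximal :=
        Ideal.IsMaximal.map_bijective _ hb (maximalIdeal.isMaximal A)
      exact eq_maximalIdeal inferInstance
    exact ⟨id1, id2, hinj, (key id1 id2 hmap).1, hmap, (key id1 id2 hmap).2⟩
  · obtain ⟨-, hd, hdvr, -, hmap, -⟩ := S1987.result A π hπ e (by omega)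
    exact ⟨hd, hdvr, hinj, (key hd hdvr hmap).1, hmap, (key hd hdvr hmap).2⟩

theorem pow_inj_maximalIdeal {S : Type u} [CommRing S] [IsDomain S] [IsDiscreteValuationRing S] {a b : ℕ}
    (h : maximalIdeal S ^ a = maximalIdeal S ^ b) : a = b :=
  (Ideal.pow_right_strictAnti (maximalIdeal S) (IsDiscreteValuationRing.not_a_field S)
    (maximalIdeal.isMaximal S).ne_top).injective h

end Groth.Agent.EtRamBC29
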