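import Groth.Agent.Lib.EtRamBC29.Unram
import Groth.Agent.Lib.EtRamH7.FibreCrit
import Mathlib.LinearAlgebra.TensorProduct.RightExactness
import Mathlib.RingTheory.TensorProduct.Finite
import Mathlib.RingTheory.Artinian.Module
import Mathlib.FieldTheory.IsAlgClosed.AlgebraicClosure

/-!
# Abhyankar's lemma with the finite extension on the tame side
-/

set_option autoImplicit false

universe u

open TensorProduct

namespace Groth.Agent.EtRamBC29

theorem abhyankar_finite (A B K L : Type u) [CommRing A] [IsDomain A] [IsDiscreteValuationRing A]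
    [CommRing B] [IsDomain B] [IsDiscreteValuationRing B] [Algebra A B] [IsLocalHom (algebraMap A B)]
    (hinj : Function.Injective (algebraMap A B))
    [Field K] [Field L] [Algebra A K] [IsFractionRing A K] [Algebra B L] [IsFractionRing B L]
    [Algebra K L] [Algebra A L] [IsScalarTower A K L] [IsScalarTower A B L] [FiniteDimensional K L]
    [Algebra.IsSeparable (IsLocalRing.ResidueField A) (IsLocalRing.ResidueField B)]
    (hek : (Ideal.ramificationIdx' (IsLocalRing.maximalIdeal A) (IsLocalRing.maximalIdeal B) : IsLocalRing.ResidueField A) ≠ 0)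
    (K₁ : Type u) [Field K₁] [Algebra K K₁] :
    EtRam.ForallLocalExt B K L K₁ (fun M _ W f => IsDiscreteValuationRing (W.comap f) →
      ∀ hA : ∀ a : A, (algebraMap K K₁) (algebraMap A K a) ∈ W.comap f,
        letI : Algebra A (W.comap f) := (RingHom.codRestrict ((algebraMap K K₁).comp (algebraMap A K)) (W.comap f) hA).toAlgebra
        letI : Algebra (W.comap f) W := (EtRam.inclOfComap W f).toAlgebra
        Ideal.ramificationIdx' (IsLocalRing.maximalIdeal A) (IsLocalRing.maximalIdeal B) ∣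
          Ideal.ramificationIdx' (IsLocalRing.maximalIdeal A) (IsLocalRing.maximalIdeal (W.comap f)) →
        EtRam.IsWeaklyUnramified (W.comap f) W ∧
          @Algebra.IsGeometricallyReduced (IsLocalRing.ResidueField (W.comap f)) (IsLocalRing.ResidueField W) _ _
            (IsLocalRing.ResidueField.map (EtRam.inclOfComap W f)).toAlgebra) := by
  classical
  intro M _ _ _ _ _ _ hgen W hW hVdvr hA
  haveI := hVdvr
  haveI : FiniteDimensional K₁ M := finite_of_adjoin (K := K) (L := L) hgen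
  haveI : IsDiscreteValuationRing W := Groth.Agent.EtRamH7.dvr_of_dominates (W.comap (algebraMap K₁ M)) K₁ M
    ((algebraMap K₁ M).comp (W.comap (algebraMap K₁ M)).subtype) rfl W
    (Groth.Agent.EtRamH7.dominates_self_comap (algebraMap K₁ M) W)
  have hcomp : ∀ a : A, algebraMap K₁ M (algebraMap K K₁ (algebraMap A K a)) =
      algebraMap L M (algebraMap B L (algebraMap A B a)) := fun a => by
    rw [← IsScalarTower.algebraMap_apply K K₁ M, ← IsScalarTower.algebraMap_apply A B L,
      IsScalarTower.algebraMap_apply A K L, ← IsScalarTower.algebraMap_apply K L M]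
  have hAW : EtRam.Dominates A ((algebraMap K₁ M).comp ((algebraMap K K₁).comp (algebraMap A K))) W := by
    refine ⟨fun a => ?_, fun a ha => ?_⟩
    · show algebraMap K₁ M (algebraMap K K₁ (algebraMap A K a)) ∈ W
      rw [hcomp]; exact hW.1 _
    · show W.valuation (algebraMap K₁ M (algebraMap K K₁ (algebraMap A K a))) < 1
      rw [hcomp]
      exact hW.2 _ (((IsLocalRing.local_hom_TFAE (algebraMap A B)).out 0 2 rfl rfl).1 inferInstance
        (Ideal.mem_map_of_mem _ ha))
  have hV := Groth.Agent.EtRamH7.dominates_comap (algebraMap K₁ M) hAW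
  letI : Algebra (W.comap (algebraMap K₁ M)) W := (EtRam.inclOfComap W (algebraMap K₁ M)).toAlgebra
  letI : Algebra A (W.comap (algebraMap K₁ M)) := (RingHom.codRestrict _ _ hV.1).toAlgebra
  intro hdvd
  letI : Algebra A W := (RingHom.codRestrict _ W hAW.1).toAlgebra
  letI : Algebra B W := (RingHom.codRestrict _ W hW.1).toAlgebra
  haveI : IsLocalHom (algebraMap A (W.comap (algebraMap K₁ M))) := Groth.Agent.EtRamH7.isLocalHom_cod hV
  haveI : IsLocalHom (algebraMap A W) := Groth.Agent.EtRamH7.isLocalHom_cod hAW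
  haveI : IsLocalHom (algebraMap B W) := Groth.Agent.EtRamH7.isLocalHom_cod hW
  haveI : IsLocalHom (algebraMap (W.comap (algebraMap K₁ M)) W) := EtRam.isLocalHom_inclOfComap _ _
  haveI : IsScalarTower A B W := IsScalarTower.of_algebraMap_eq fun a => Subtype.ext (hcomp a)
  haveI : IsScalarTower A (W.comap (algebraMap K₁ M)) W := IsScalarTower.of_algebraMap_eq fun _ => rfl
  letI : Algebra (IsLocalRing.ResidueField (W.comap (algebraMap K₁ M))) (IsLocalRing.ResidueField W) :=
    (IsLocalRing.ResidueField.map (EtRam.inclOfComap W (algebraMap K₁ M))).toAlgebra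
  haveI : IsScalarTower A (IsLocalRing.ResidueField (W.comap (algebraMap K₁ M))) (IsLocalRing.ResidueField W) :=
    IsScalarTower.of_algebraMap_eq fun _ => rfl
  have hinjAV : Function.Injective (algebraMap A (W.comap (algebraMap K₁ M))) := fun a b hab =>
    IsFractionRing.injective A K ((algebraMap K K₁).injective (congrArg Subtype.val hab))
  haveI : Module.Finite (IsLocalRing.ResidueField A) (IsLocalRing.ResidueField B) :=
    (Groth.Agent.S7132.result A B K L hinj).1
  let V := W.comap (algebraMap K₁ M)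
  let k := IsLocalRing.ResidueField A
  let kV := IsLocalRing.ResidueField V
  let kB := IsLocalRing.ResidueField B
  let kW := IsLocalRing.ResidueField W
  -- uniformisers
  obtain ⟨π, hπ⟩ := IsDiscreteValuationRing.exists_irreducible A
  obtain ⟨ϖ, hϖ⟩ := IsDiscreteValuationRing.exists_irreducible B
  obtain ⟨ρ, hρ⟩ := IsDiscreteValuationRing.exists_irreducible V
  set e := Ideal.ramificationIdx' (IsLocalRing.maximalIdeal A) (IsLocalRing.maximalIdeal B) with he
  set e' := Ideal.ramificationIdx' (IsLocalRing.maximalIdeal A) (IsLocalRing.maximalIdeal V) with he'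
  obtain ⟨m, hm⟩ : e ∣ e' := hdvd
  have hBmap := Groth.Agent.EtRamH7.map_maximalIdeal_eq_pow A B hinj
  rw [← he, hπ.maximalIdeal_eq, hϖ.maximalIdeal_eq, Ideal.map_span, Set.image_singleton,
    Ideal.span_singleton_pow, Ideal.span_singleton_eq_span_singleton] at hBmap
  obtain ⟨u, hu⟩ := hBmap.symm
  have hVmap := Groth.Agent.EtRamH7.map_maximalIdeal_eq_pow A V hinjAV
  rw [← he', hπ.maximalIdeal_eq, hρ.maximalIdeal_eq, Ideal.map_span, Set.image_singleton,
    Ideal.span_singleton_pow, Ideal.span_singleton_eq_span_singleton] at hVmap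
  obtain ⟨v, hv⟩ := hVmap.symm
  have he1 : e ≠ 0 := by
    intro h0
    rw [h0, pow_zero, one_mul] at hu
    exact hπ.not_isUnit (isUnit_of_map_unit (algebraMap A B) _ (hu ▸ u.isUnit))
  have hm1 : m ≠ 0 := by
    intro h0
    rw [hm, h0, mul_zero, pow_zero, one_mul] at hv
    exact hπ.not_isUnit (isUnit_of_map_unit (algebraMap A V) _ (hv ▸ v.isUnit))
  let ρ' : W := algebraMap V W ρ
  have hinjVW : Function.Injective (algebraMap V W) :=
    fun a b h => Subtype.ext ((algebraMap K₁ M).injective (congrArg Subtype.val h))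
  have hρ'0 : ρ' ≠ 0 := fun h => hρ.ne_zero (hinjVW (h.trans (map_zero _).symm))
  let w : W := algebraMap V W v * algebraMap B W ((u⁻¹ : Bˣ) : B)
  have hrel : algebraMap B W ϖ ^ e = (ρ' ^ m) ^ e * w := by
    have h1 : algebraMap A W π = algebraMap B W ϖ ^ e * algebraMap B W u := by
      rw [IsScalarTower.algebraMap_apply A B W, ← hu, map_mul, map_pow]
    have h2 : algebraMap A W π = (ρ' ^ m) ^ e * algebraMap V W v := by
      rw [IsScalarTower.algebraMap_apply A V W, ← hv, map_mul, map_pow, hm, mul_comm e m, pow_mul]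
    calc algebraMap B W ϖ ^ e = (algebraMap B W ϖ ^ e * algebraMap B W u) * algebraMap B W ((u⁻¹ : Bˣ) : B) := by
          rw [mul_assoc, ← map_mul, Units.mul_inv, map_one, mul_one]
      _ = _ := by rw [← h1, h2, mul_assoc]
  let η₀ : M := (algebraMap B W ϖ : W) / ((ρ' : M) ^ m)
  have hρM : ((ρ' : M) ^ m) ≠ 0 := pow_ne_zero _ fun h => hρ'0 (Subtype.ext h)
  have hη₀ : η₀ ^ e = (w : M) := by
    have h := congrArg Subtype.val hrel
    push_cast at h
    rw [div_pow, h, mul_div_assoc, mul_comm, div_mul_cancel₀ _ (pow_ne_zero _ hρM)]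
  have hη₀W : η₀ ∈ W := by
    by_contra hn
    have h0 : η₀ ≠ 0 := fun h => hn (h ▸ W.zero_mem)
    rw [← ValuationSubring.valuation_le_one_iff, not_le] at hn
    have h1 : W.valuation (η₀ ^ e) ≤ 1 := by rw [hη₀]; exact (W.valuation_le_one_iff _).2 w.2
    rw [map_pow] at h1
    exact absurd h1 (not_le.2 (one_lt_pow₀ hn he1))
  let η : W := ⟨η₀, hη₀W⟩
  have hη : η ^ e = w := Subtype.ext hη₀
  have hϖη : algebraMap B W ϖ = ρ' ^ m * η := Subtype.ext (by
    show (algebraMap B W ϖ : M) = (ρ' : M) ^ m * η₀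
    rw [mul_div_cancel₀ _ hρM])
  -- the special fibre
  haveI : Algebra.FormallyEtale k kB := Algebra.FormallyEtale.of_isSeparable k kB
  haveI hcs : ∀ (P Q : Type u) [AddCommGroup P] [AddCommGroup Q] [Module A P] [Module A Q] [Module k P]
      [Module k Q] [IsScalarTower A k P] [IsScalarTower A k Q], TensorProduct.CompatibleSMul A k P Q := by
    intro P Q _ _ _ _ _ _ _ _
    refine ⟨fun c m n => ?_⟩
    obtain ⟨a, rfl⟩ := IsLocalRing.residue_surjective c
    rw [← IsLocalRing.ResidueField.algebraMap_eq, IsScalarTower.algebraMap_smul, IsScalarTower.algebraMap_smul,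
      TensorProduct.smul_tmul]
  haveI := hcs kV kB
  let e₁ : kV ⊗[k] kB ≃ₐ[kV] kV ⊗[A] kB :=
    Algebra.TensorProduct.equivOfCompatibleSMul A k kV kV kB
  let T₀ := kV ⊗[A] kB
  haveI : IsReduced (kV ⊗[k] kB) := Algebra.FormallyUnramified.isReduced_of_field kV _
  haveI : IsReduced T₀ := isReduced_of_injective e₁.symm e₁.symm.injective
  haveI : IsArtinianRing T₀ := by
    haveI : IsArtinianRing (kV ⊗[k] kB) := IsArtinianRing.of_finite kV _
    exact Function.Surjective.isArtinianRing (f := (e₁.toRingEquiv : kV ⊗[k] kB →+* T₀)) e₁.surjective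
  let q₀ : V ⊗[A] B →ₐ[A] T₀ := Algebra.TensorProduct.map (IsScalarTower.toAlgHom A V kV) (IsScalarTower.toAlgHom A B kB)
  let Φ₀ : V ⊗[A] B →ₐ[A] W := Algebra.TensorProduct.lift (IsScalarTower.toAlgHom A V W)
    (IsScalarTower.toAlgHom A B W) (fun _ _ => Commute.all _ _)
  let c₀ : V ⊗[A] B := (v : V) ⊗ₜ ((u⁻¹ : Bˣ) : B)
  have hΦc : Φ₀ c₀ = w := by simp [Φ₀, c₀, w]
  have hc₀u : IsUnit c₀ := IsUnit.of_mul_eq_one (((v⁻¹ : Vˣ) : V) ⊗ₜ (u : B)) (by
    rw [Algebra.TensorProduct.tmul_mul_tmul, Units.mul_inv, Units.inv_mul, Algebra.TensorProduct.one_def])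
  have heT : ∀ (R : Type u) [CommRing R] [Algebra kV R], IsUnit ((e : ℕ) : R) := fun R _ _ => by
    have h1 : (e : kV) ≠ 0 := by
      rw [← map_natCast (algebraMap k kV)]
      exact (map_ne_zero _).2 hek
    have h2 := (IsUnit.mk0 _ h1).map (algebraMap kV R)
    rwa [map_natCast] at h2
  let g : Polynomial T₀ := Polynomial.X ^ e - Polynomial.C (q₀ c₀)
  have hgm : g.Monic := Polynomial.monic_X_pow_sub_C _ he1
  have hgs : g.Separable := by
    obtain ⟨z, hz⟩ := hc₀u.map q₀
    show (Polynomial.X ^ e - Polynomial.C (q₀ c₀)).Separable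
    rw [← hz]
    exact Polynomial.separable_X_pow_sub_C_unit z (heT T₀)
  let T := AdjoinRoot g
  haveI : IsReduced T := Groth.Agent.EtRamH7.isReduced_adjoinRoot hgm hgs
  haveI : Module.Finite T₀ T := hgm.finite_adjoinRoot
  haveI : IsArtinianRing T := IsArtinianRing.of_finite T₀ T
  haveI hTgr : Algebra.IsGeometricallyReduced kV T := by
    rw [Algebra.isGeometricallyReduced_field_iff]
    let AC := AlgebraicClosure kV
    haveI : IsReduced (AC ⊗[k] kB) := Algebra.FormallyUnramified.isReduced_of_field AC _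
    haveI : IsReduced (AC ⊗[kV] T₀) := isReduced_of_injective
      ((Algebra.TensorProduct.congr (AlgEquiv.refl : AC ≃ₐ[AC] AC) e₁.symm).trans
        (Algebra.TensorProduct.cancelBaseChange k kV AC AC kB))
      (AlgEquiv.injective _)
    haveI : IsReduced (AdjoinRoot (g.map (Algebra.TensorProduct.includeRight : T₀ →ₐ[kV] AC ⊗[kV] T₀).toRingHom)) :=
      Groth.Agent.EtRamH7.isReduced_adjoinRoot (hgm.map _) hgs.map
    exact isReduced_of_injective (AdjoinRoot.tensorAlgEquiv (R := kV) (T := AC) g _ rfl) (AlgEquiv.injective _)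
  let ψ₁ : T₀ →ₐ[kV] kW := Algebra.TensorProduct.lift (Algebra.ofId kV kW)
    ({ IsLocalRing.ResidueField.map (algebraMap B W) with
        commutes' := fun a => congrArg (IsLocalRing.residue W) (IsScalarTower.algebraMap_apply A B W a).symm } :
      kB →ₐ[A] kW) (fun _ _ => Commute.all _ _)
  have hψ₁q : ∀ s, ψ₁ (q₀ s) = IsLocalRing.residue W (Φ₀ s) := by
    intro s
    induction s using TensorProduct.induction_on with
    | zero => simp
    | tmul v b =>
      show ψ₁ (IsLocalRing.residue V v ⊗ₜ IsLocalRing.residue B b) = IsLocalRing.residue W (algebraMap V W v * algebraMap B W b)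
      rw [map_mul]
      rfl
    | add x y hx hy => simp only [map_add, hx, hy]
  have hsV : Function.Surjective (IsScalarTower.toAlgHom A V kV) := IsLocalRing.residue_surjective
  have hsB : Function.Surjective (IsScalarTower.toAlgHom A B kB) := IsLocalRing.residue_surjective
  have hq₀surj : Function.Surjective q₀ := TensorProduct.map_surjective hsV hsB
  let Φ : Polynomial (V ⊗[A] B) →+* W := Polynomial.eval₂RingHom Φ₀.toRingHom η
  have hΦC : ∀ s, Φ (Polynomial.C s) = Φ₀ s := fun s => Polynomial.eval₂_C _ _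
  have hΦX : Φ Polynomial.X = η := Polynomial.eval₂_X _ _
  have hkerq₀ : ∀ s, q₀ s = 0 → ∃ r, Φ₀ s = ρ' * Φ r := by
    intro s hs
    have h1 : s ∈ RingHom.ker q₀ := hs
    rw [Algebra.TensorProduct.map_ker _ _ hsV hsB] at h1
    let J : Ideal (V ⊗[A] B) := Ideal.span {ρ ⊗ₜ[A] (1 : B), (1 : V) ⊗ₜ[A] ϖ}
    have hle : s ∈ J := by
      refine (sup_le ?_ ?_ : _ ≤ J) h1
      · rw [Ideal.map_le_iff_le_comap]
        intro x hx
        have hx' : x ∈ IsLocalRing.maximalIdeal V := (IsLocalRing.residue_eq_zero_iff x).1 hx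
        obtain ⟨d, rfl⟩ := Ideal.mem_span_singleton.1 (hρ.maximalIdeal_eq ▸ hx')
        show (ρ * d) ⊗ₜ[A] (1 : B) ∈ J
        rw [show ((ρ * d) ⊗ₜ[A] (1 : B)) = ρ ⊗ₜ 1 * d ⊗ₜ 1 by simp]
        exact Ideal.mul_mem_right _ _ (Ideal.subset_span (Or.inl rfl))
      · rw [Ideal.map_le_iff_le_comap]
        intro x hx
        have hx' : x ∈ IsLocalRing.maximalIdeal B := (IsLocalRing.residue_eq_zero_iff x).1 hx
        obtain ⟨d, rfl⟩ := Ideal.mem_span_singleton.1 (hϖ.maximalIdeal_eq ▸ hx')
        show (1 : V) ⊗ₜ[A] (ϖ * d) ∈ J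
        rw [show ((1 : V) ⊗ₜ[A] (ϖ * d)) = 1 ⊗ₜ ϖ * 1 ⊗ₜ d by simp]
        exact Ideal.mul_mem_right _ _ (Ideal.subset_span (Or.inr rfl))
    obtain ⟨a, b, rfl⟩ := Ideal.mem_span_pair.1 hle
    obtain ⟨m', rfl⟩ := Nat.exists_eq_succ_of_ne_zero hm1
    refine ⟨Polynomial.C a + Polynomial.C (b * (ρ ⊗ₜ[A] (1 : B)) ^ m') * Polynomial.X, ?_⟩
    have h2 : Φ₀ (ρ ⊗ₜ[A] (1 : B)) = ρ' := by simp [Φ₀, ρ']
    have h3 : Φ₀ ((1 : V) ⊗ₜ[A] ϖ) = ρ' ^ (m' + 1) * η := by simp [Φ₀, ← hϖη]
    simp only [map_add, map_mul, map_pow, hΦC, hΦX, h2, h3]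
    ring
  -- every element is a fraction
  let S₀ : Subring M := (W.subtype.comp Φ₀.toRingHom).range
  have hfrac : ∀ x : W, ∃ r s, Φ₀ s ≠ 0 ∧ x * Φ₀ s = Φ₀ r := by
    intro x
    have hB : ∀ b : B, algebraMap L M (algebraMap B L b) ∈ S₀ := fun b =>
      ⟨1 ⊗ₜ b, by simp [Φ₀]; rfl⟩
    have hV' : ∀ v : V, algebraMap K₁ M v ∈ S₀ := fun v => ⟨v ⊗ₜ 1, by simp [Φ₀]; rfl⟩
    have htop : Subfield.closure (S₀ : Set M) = ⊤ := by
      let F := Subfield.closure (S₀ : Set M)
      have hL : ∀ l : L, algebraMap L M l ∈ F := fun l => by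
        obtain ⟨b₁, b₂, -, rfl⟩ := IsFractionRing.div_surjective (A := B) l
        rw [map_div₀]
        exact div_mem (Subfield.subset_closure (hB b₁)) (Subfield.subset_closure (hB b₂))
      let FA : Subalgebra L M := { F.toSubring with algebraMap_mem' := hL }
      refine top_le_iff.1 fun m _ => ?_
      have hle : Algebra.adjoin L (Set.range (algebraMap K₁ M)) ≤ FA := Algebra.adjoin_le (by
        rintro _ ⟨z, rfl⟩
        obtain ⟨v₁, v₂, -, rfl⟩ := IsFractionRing.div_surjective (A := V) z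
        rw [map_div₀]
        show _ ∈ F
        exact div_mem (Subfield.subset_closure (hV' v₁)) (Subfield.subset_closure (hV' v₂)))
      exact hle (by rw [hgen]; trivial)
    obtain ⟨y, hy, z, hz, hyz⟩ := Subfield.mem_closure_iff.1 (show (x : M) ∈ Subfield.closure (S₀ : Set M) by rw [htop]; trivial)
    rw [Subring.closure_eq] at hy hz
    obtain ⟨r, rfl⟩ := hy
    obtain ⟨s, rfl⟩ := hz
    rcases eq_or_ne (Φ₀ s) 0 with h0 | h0
    · refine ⟨0, 1, by simp, ?_⟩
      have hx : (x : M) = 0 := by rw [← hyz]; simp [h0]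
      rw [show x = 0 from Subtype.ext hx]; simp
    · refine ⟨r, s, h0, Subtype.ext ?_⟩
      push_cast
      rw [← hyz]
      exact div_mul_cancel₀ _ (fun h => h0 (Subtype.ext h))
  exact Groth.Agent.EtRamH7.fibre_criterion_root hinjVW ρ hρ Φ₀.toRingHom q₀.toRingHom hq₀surj ψ₁ hψ₁q c₀ η
    (hη.trans hΦc.symm) hgm hkerq₀ hfrac

end Groth.Agent.EtRamBC29
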