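import Groth.Agent.Lib.EtRamH7.Compositum
import Groth.Agent.Lib.GeomRed21.Algebra
import Mathlib.LinearAlgebra.TensorProduct.RightExactness
import Mathlib.RingTheory.TensorProduct.Finite
import Mathlib.RingTheory.Artinian.Module
import Mathlib.RingTheory.Unramified.Field
import Mathlib.RingTheory.Etale.Field
import Mathlib.FieldTheory.IsAlgClosed.AlgebraicClosure

/-!
# Base change of unramified extensions along arbitrary extensions of discrete valuation rings
-/

set_option autoImplicit false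

universe u

open TensorProduct

namespace Groth.Agent.EtRamBC29

theorem finite_of_adjoin {K L K₁ M : Type u} [Field K] [Field L] [Field K₁] [Field M] [Algebra K L] [Algebra K K₁]
    [Algebra K M] [Algebra L M] [Algebra K₁ M] [IsScalarTower K L M] [IsScalarTower K K₁ M] [FiniteDimensional K L]
    (hgen : Algebra.adjoin L (Set.range (algebraMap K₁ M)) = ⊤) : FiniteDimensional K₁ M := by
  let ψ₀ : K₁ ⊗[K] L →ₐ[K₁] M := Algebra.TensorProduct.lift (Algebra.ofId K₁ M)
    (IsScalarTower.toAlgHom K L M) (fun _ _ => Commute.all _ _)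
  let F : Subalgebra L M :=
    { ψ₀.range.toSubsemiring with algebraMap_mem' := fun l => ⟨1 ⊗ₜ l, by simp [ψ₀]⟩ }
  have hψ₀ : Function.Surjective ψ₀ := by
    intro m
    have hle : Algebra.adjoin L (Set.range (algebraMap K₁ M)) ≤ F :=
      Algebra.adjoin_le (by rintro _ ⟨z, rfl⟩; exact ⟨z ⊗ₜ 1, by simp [ψ₀]⟩)
    exact (hle (by rw [hgen]; trivial) : m ∈ F)
  exact Module.Finite.of_surjective ψ₀.toLinearMap hψ₀

/-- If `A → B` is unramified with finite fraction field extension, it stays so over any local extension. -/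
theorem isSolution_finite (A B K L : Type u) [CommRing A] [IsDomain A] [IsDiscreteValuationRing A]
    [CommRing B] [IsDomain B] [IsDiscreteValuationRing B] [Algebra A B] [IsLocalHom (algebraMap A B)]
    (hinj : Function.Injective (algebraMap A B))
    [Field K] [Field L] [Algebra A K] [IsFractionRing A K] [Algebra B L] [IsFractionRing B L]
    [Algebra K L] [Algebra A L] [IsScalarTower A K L] [IsScalarTower A B L] [FiniteDimensional K L]
    (hw : EtRam.IsWeaklyUnramified A B) [Algebra.IsSeparable (IsLocalRing.ResidueField A) (IsLocalRing.ResidueField B)]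
    (K₁ : Type u) [Field K₁] [Algebra K K₁] :
    EtRam.ForallLocalExt B K L K₁ (fun M _ W f => IsDiscreteValuationRing (W.comap f) →
      (letI : Algebra (W.comap f) W := (EtRam.inclOfComap W f).toAlgebra
      EtRam.IsWeaklyUnramified (W.comap f) W ∧
        @Algebra.IsGeometricallyReduced (IsLocalRing.ResidueField (W.comap f)) (IsLocalRing.ResidueField W) _ _
          (IsLocalRing.ResidueField.map (EtRam.inclOfComap W f)).toAlgebra)) := by
  classical
  intro M _ _ _ _ _ _ hgen W hW hVdvr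
  haveI := hVdvr
  haveI : FiniteDimensional K₁ M := finite_of_adjoin (K := K) (L := L) hgen
  haveI : IsFractionRing (W.comap (algebraMap K₁ M)) K₁ := inferInstance
  haveI : IsDiscreteValuationRing W := Groth.Agent.EtRamH7.dvr_of_dominates (W.comap (algebraMap K₁ M)) K₁ M
    ((algebraMap K₁ M).comp (W.comap (algebraMap K₁ M)).subtype) rfl W
    (Groth.Agent.EtRamH7.dominates_self_comap (algebraMap K₁ M) W)
  have hcomp : ∀ a : A, algebraMap K₁ M (algebraMap K K₁ (algebraMap A K a)) =
      algebraMap L M (algebraMap B L (algebraMap A B a)) := fun a => by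
    rw [← IsScalarTower.algebraMap_apply K K₁ M, ← IsScalarTower.algebraMap_apply A B L,
      IsScalarTower.algebraMap_apply A K L, ← IsScalarTower.algebraMap_apply K L M]
  have hAW : EtRam.Dominates A ((algebraMap K₁ M).comp ((algebraMap K K₁).comp (algebraMap A K))) W := by
    refine ⟨fun a => ?_, fun a ha => ?_⟩
    · show algebraMap K₁ M (algebraMap K K₁ (algebraMap A K a)) ∈ W
      rw [hcomp]; exact hW.1 _
    · show W.valuation (algebraMap K₁ M (algebraMap K K₁ (algebraMap A K a))) < 1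
      rw [hcomp]
      exact hW.2 _ (((IsLocalRing.local_hom_TFAE (algebraMap A B)).out 0 2 rfl rfl).1 inferInstance
        (Ideal.mem_map_of_mem _ ha))
  have hV := Groth.Agent.EtRamH7.dominates_comap (algebraMap K₁ M) hAW
  let algVW : Algebra (W.comap (algebraMap K₁ M)) W := (EtRam.inclOfComap W (algebraMap K₁ M)).toAlgebra
  letI := algVW
  letI : Algebra A (W.comap (algebraMap K₁ M)) := (RingHom.codRestrict _ _ hV.1).toAlgebra
  letI : Algebra A W := (RingHom.codRestrict _ W hAW.1).toAlgebra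
  letI : Algebra B W := (RingHom.codRestrict _ W hW.1).toAlgebra
  haveI : IsLocalHom (algebraMap A (W.comap (algebraMap K₁ M))) := Groth.Agent.EtRamH7.isLocalHom_cod hV
  haveI : IsLocalHom (algebraMap A W) := Groth.Agent.EtRamH7.isLocalHom_cod hAW
  haveI : IsLocalHom (algebraMap B W) := Groth.Agent.EtRamH7.isLocalHom_cod hW
  haveI : IsLocalHom (algebraMap (W.comap (algebraMap K₁ M)) W) := EtRam.isLocalHom_inclOfComap _ _
  haveI : IsScalarTower A B W := IsScalarTower.of_algebraMap_eq fun a => Subtype.ext (hcomp a)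
  haveI : IsScalarTower A (W.comap (algebraMap K₁ M)) W := IsScalarTower.of_algebraMap_eq fun _ => rfl
  letI : Algebra (IsLocalRing.ResidueField (W.comap (algebraMap K₁ M))) (IsLocalRing.ResidueField W) :=
    (IsLocalRing.ResidueField.map (EtRam.inclOfComap W (algebraMap K₁ M))).toAlgebra
  haveI : IsScalarTower A (IsLocalRing.ResidueField (W.comap (algebraMap K₁ M))) (IsLocalRing.ResidueField W) :=
    IsScalarTower.of_algebraMap_eq fun _ => rfl
  haveI : Module.Finite (IsLocalRing.ResidueField A) (IsLocalRing.ResidueField B) :=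
    (Groth.Agent.S7132.result A B K L hinj).1
  -- the special fibre `T`
  let V := W.comap (algebraMap K₁ M)
  let k := IsLocalRing.ResidueField A
  let kV := IsLocalRing.ResidueField V
  let kB := IsLocalRing.ResidueField B
  let kW := IsLocalRing.ResidueField W
  haveI hcs : ∀ (P Q : Type u) [AddCommGroup P] [AddCommGroup Q] [Module A P] [Module A Q] [Module k P]
      [Module k Q] [IsScalarTower A k P] [IsScalarTower A k Q], TensorProduct.CompatibleSMul A k P Q := by
    intro P Q _ _ _ _ _ _ _ _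
    refine ⟨fun c m n => ?_⟩
    obtain ⟨a, rfl⟩ := IsLocalRing.residue_surjective c
    rw [← IsLocalRing.ResidueField.algebraMap_eq, IsScalarTower.algebraMap_smul, IsScalarTower.algebraMap_smul,
      TensorProduct.smul_tmul]
  haveI := hcs kV kB
  let e₁ : kV ⊗[k] kB ≃ₐ[kV] kV ⊗[A] kB :=
    Algebra.TensorProduct.equivOfCompatibleSMul A k kV kV kB
  let T := kV ⊗[A] kB
  haveI : Algebra.FormallyEtale k kB := Algebra.FormallyEtale.of_isSeparable k kB
  haveI : IsReduced (kV ⊗[k] kB) := Algebra.FormallyUnramified.isReduced_of_field kV _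
  haveI : IsReduced T := isReduced_of_injective e₁.symm e₁.symm.injective
  haveI : IsArtinianRing T := by
    haveI : IsArtinianRing (kV ⊗[k] kB) := IsArtinianRing.of_finite kV _
    exact Function.Surjective.isArtinianRing (f := (e₁.toRingEquiv : kV ⊗[k] kB →+* T)) e₁.surjective
  haveI hTgr : Algebra.IsGeometricallyReduced kV T := by
    rw [Algebra.isGeometricallyReduced_field_iff]
    let AC := AlgebraicClosure kV
    haveI : IsReduced (AC ⊗[k] kB) := Algebra.FormallyUnramified.isReduced_of_field AC _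
    exact isReduced_of_injective
      ((Algebra.TensorProduct.congr (AlgEquiv.refl : AC ≃ₐ[AC] AC) e₁.symm).trans
        (Algebra.TensorProduct.cancelBaseChange k kV AC AC kB))
      (AlgEquiv.injective _)
  have hvnr : ∀ t : T, ∃ u, t = t ^ 2 * u := by
    intro t
    obtain ⟨n, u, hu⟩ := IsArtinian.exists_pow_succ_smul_dvd (R := T) (M := T) t (1 : T)
    simp only [smul_eq_mul, mul_one] at hu
    refine ⟨u, ?_⟩
    have h : (t - t ^ 2 * u) ^ (n + 1) = 0 := by
      have h1 : t ^ n * (t - t ^ 2 * u) = 0 := by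
        rw [mul_sub, sub_eq_zero]
        calc t ^ n * t = (t ^ n.succ * u) * t := by rw [hu]
          _ = t ^ n * (t ^ 2 * u) := by rw [Nat.succ_eq_add_one, pow_succ]; ring
      calc (t - t ^ 2 * u) ^ (n + 1) = (t ^ n * (t - t ^ 2 * u)) * (1 - t * u) ^ n := by
            rw [pow_succ, show t - t ^ 2 * u = t * (1 - t * u) by ring, mul_pow]; ring
        _ = 0 := by rw [h1, zero_mul]
    exact sub_eq_zero.1 (IsReduced.eq_zero _ ⟨_, h⟩)
  let ψ : T →ₐ[kV] kW := Algebra.TensorProduct.lift (Algebra.ofId kV kW)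
    ({ IsLocalRing.ResidueField.map (algebraMap B W) with
        commutes' := fun a => congrArg (IsLocalRing.residue W) (IsScalarTower.algebraMap_apply A B W a).symm } :
      kB →ₐ[A] kW) (fun _ _ => Commute.all _ _)
  have hsep : ∀ t : T, ψ t = 0 → ∃ s : T, ψ s ≠ 0 ∧ s * t = 0 := by
    intro t ht
    obtain ⟨u, hu⟩ := hvnr t
    refine ⟨1 - t * u, ?_, ?_⟩
    · rw [map_sub, map_mul, ht, zero_mul, map_one, sub_zero]; exact one_ne_zero
    · rw [sub_mul, one_mul, mul_right_comm, ← sq, ← hu, sub_self]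
  let q : V ⊗[A] B →ₐ[A] T := Algebra.TensorProduct.map (IsScalarTower.toAlgHom A V kV) (IsScalarTower.toAlgHom A B kB)
  let Φ : V ⊗[A] B →ₐ[A] W := Algebra.TensorProduct.lift (IsScalarTower.toAlgHom A V W)
    (IsScalarTower.toAlgHom A B W) (fun _ _ => Commute.all _ _)
  have hsV : Function.Surjective (IsScalarTower.toAlgHom A V kV) := IsLocalRing.residue_surjective
  have hsB : Function.Surjective (IsScalarTower.toAlgHom A B kB) := IsLocalRing.residue_surjective
  have hqsurj : Function.Surjective q := TensorProduct.map_surjective hsV hsB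
  have hψq : ∀ s, ψ (q s) = IsLocalRing.residue W (Φ s) := by
    intro s
    induction s using TensorProduct.induction_on with
    | zero => simp
    | tmul v b =>
      show ψ (IsLocalRing.residue V v ⊗ₜ IsLocalRing.residue B b) = IsLocalRing.residue W (algebraMap V W v * algebraMap B W b)
      rw [map_mul]
      rfl
    | add x y hx hy => simp only [map_add, hx, hy]
  obtain ⟨ρ, hρ⟩ := IsDiscreteValuationRing.exists_irreducible V
  obtain ⟨π, hπ⟩ := IsDiscreteValuationRing.exists_irreducible A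
  have hρmax := hρ.maximalIdeal_eq
  obtain ⟨c, hc⟩ : ρ ∣ algebraMap A V π := by
    rw [← Ideal.mem_span_singleton, ← hρmax, IsLocalRing.mem_maximalIdeal]
    exact fun h => hπ.not_isUnit (isUnit_of_map_unit (algebraMap A V) _ h)
  have hkerq : ∀ s, q s = 0 → ρ ⊗ₜ (1 : B) ∣ s := by
    intro s hs
    have h1 : s ∈ RingHom.ker q := hs
    rw [Algebra.TensorProduct.map_ker _ _ hsV hsB] at h1
    refine Ideal.mem_span_singleton.1 ((sup_le ?_ ?_ : _ ≤ Ideal.span {ρ ⊗ₜ[A] (1 : B)}) h1)
    · rw [Ideal.map_le_iff_le_comap]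
      intro v hv
      have hv' : v ∈ IsLocalRing.maximalIdeal V := (IsLocalRing.residue_eq_zero_iff v).1 hv
      obtain ⟨d, rfl⟩ := Ideal.mem_span_singleton.1 (hρmax ▸ hv')
      exact Ideal.mem_span_singleton.2 ⟨d ⊗ₜ 1, by simp⟩
    · rw [Ideal.map_le_iff_le_comap]
      intro b hb
      have hb' : b ∈ IsLocalRing.maximalIdeal B := (IsLocalRing.residue_eq_zero_iff b).1 hb
      rw [← hw, hπ.maximalIdeal_eq, Ideal.map_span, Set.image_singleton, Ideal.mem_span_singleton] at hb'
      obtain ⟨d, rfl⟩ := hb'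
      refine Ideal.mem_span_singleton.2 ⟨c ⊗ₜ d, ?_⟩
      show (1 : V) ⊗ₜ[A] (algebraMap A B π * d) = ρ ⊗ₜ 1 * c ⊗ₜ d
      rw [Algebra.TensorProduct.tmul_mul_tmul, ← hc, one_mul, ← Algebra.smul_def,
        Algebra.algebraMap_eq_smul_one, TensorProduct.smul_tmul]
  let ρ' : W := algebraMap V W ρ
  have hρ' : ¬ IsUnit ρ' := fun h => hρ.not_isUnit (isUnit_of_map_unit (algebraMap V W) _ h)
  have hinjVW : Function.Injective (algebraMap V W) :=
    fun a b h => Subtype.ext ((algebraMap K₁ M).injective (congrArg Subtype.val h))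
  have hρ'0 : ρ' ≠ 0 := fun h => hρ.ne_zero (hinjVW (h.trans (map_zero _).symm))
  have hΦρ : Φ (ρ ⊗ₜ 1) = ρ' := by simp [Φ, ρ']
  obtain ⟨ϖ, hϖ⟩ := IsDiscreteValuationRing.exists_irreducible W
  have key : ∀ i : ℕ, ∀ s, Φ s ≠ 0 → ¬ ϖ ^ i ∣ Φ s →
      ∃ (j : ℕ) (σ s₁ : V ⊗[A] B), IsUnit (Φ σ) ∧ IsUnit (Φ s₁) ∧ Φ s * Φ σ = ρ' ^ j * Φ s₁ := by
    intro i
    induction i with
    | zero => intro s _ h; exact absurd (by simp) h
    | succ i ih =>
      intro s h0 hi
      by_cases hu : IsUnit (Φ s)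
      · exact ⟨0, 1, s, by simp, hu, by simp⟩
      have ht : ψ (q s) = 0 := by
        rw [hψq, IsLocalRing.residue_eq_zero_iff, IsLocalRing.mem_maximalIdeal]; exact hu
      obtain ⟨t', ht', htt⟩ := hsep _ ht
      obtain ⟨σ, rfl⟩ := hqsurj t'
      rw [hψq, Ne, IsLocalRing.residue_eq_zero_iff, IsLocalRing.notMem_maximalIdeal] at ht'
      obtain ⟨r, hr⟩ := hkerq (σ * s) (by rw [map_mul, htt])
      have hmul : Φ σ * Φ s = ρ' * Φ r := by rw [← map_mul, hr, map_mul, hΦρ]
      have hr0 : Φ r ≠ 0 := fun h => mul_ne_zero ht'.ne_zero h0 (by rw [hmul, h, mul_zero])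
      have hri : ¬ ϖ ^ i ∣ Φ r := by
        rintro ⟨d, hd⟩
        have hϖρ : ϖ ∣ ρ' := by
          rw [← Ideal.mem_span_singleton, ← hϖ.maximalIdeal_eq, IsLocalRing.mem_maximalIdeal]; exact hρ'
        obtain ⟨e, he⟩ := hϖρ
        refine hi ((ht'.dvd_mul_left).1 ⟨e * d, ?_⟩)
        rw [hmul, hd, he]; ring
      obtain ⟨j, σ₁, s₁, h1, h2, h3⟩ := ih r hr0 hri
      refine ⟨j + 1, σ * σ₁, s₁, by rw [map_mul]; exact ht'.mul h1, h2, ?_⟩
      rw [map_mul, ← mul_assoc, mul_comm (Φ s), hmul, mul_assoc, h3]; ring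
  have key' : ∀ s, Φ s ≠ 0 →
      ∃ (j : ℕ) (σ s₁ : V ⊗[A] B), IsUnit (Φ σ) ∧ IsUnit (Φ s₁) ∧ Φ s * Φ σ = ρ' ^ j * Φ s₁ := by
    intro s hs
    obtain ⟨m, u, hu⟩ := IsDiscreteValuationRing.eq_unit_mul_pow_irreducible hs hϖ
    refine key (m + 1) s hs fun h => ?_
    rw [hu, Units.dvd_mul_left, pow_dvd_pow_iff hϖ.ne_zero hϖ.not_isUnit] at h
    omega
  -- every element is a fraction
  let S₀ : Subring M := (W.subtype.comp Φ.toRingHom).range
  have hfrac : ∀ x : W, ∃ r s, Φ s ≠ 0 ∧ x * Φ s = Φ r := by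
    intro x
    have hB : ∀ b : B, algebraMap L M (algebraMap B L b) ∈ S₀ := fun b =>
      ⟨1 ⊗ₜ b, by simp [Φ]; rfl⟩
    have hV' : ∀ v : V, algebraMap K₁ M v ∈ S₀ := fun v => ⟨v ⊗ₜ 1, by simp [Φ]; rfl⟩
    have htop : Subfield.closure (S₀ : Set M) = ⊤ := by
      let F := Subfield.closure (S₀ : Set M)
      have hL : ∀ l : L, algebraMap L M l ∈ F := fun l => by
        obtain ⟨b₁, b₂, -, rfl⟩ := IsFractionRing.div_surjective (A := B) l
        rw [map_div₀]
        exact div_mem (Subfield.subset_closure (hB b₁)) (Subfield.subset_closure (hB b₂))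
      let FA : Subalgebra L M := { F.toSubring with algebraMap_mem' := hL }
      refine top_le_iff.1 fun m _ => ?_
      have hle : Algebra.adjoin L (Set.range (algebraMap K₁ M)) ≤ FA := Algebra.adjoin_le (by
        rintro _ ⟨z, rfl⟩
        obtain ⟨v₁, v₂, -, rfl⟩ := IsFractionRing.div_surjective (A := V) z
        rw [map_div₀]
        show _ ∈ F
        exact div_mem (Subfield.subset_closure (hV' v₁)) (Subfield.subset_closure (hV' v₂)))
      exact hle (by rw [hgen]; trivial)
    obtain ⟨y, hy, z, hz, hyz⟩ := Subfield.mem_closure_iff.1 (show (x : M) ∈ Subfield.closure (S₀ : Set M) by rw [htop]; trivial)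
    rw [Subring.closure_eq] at hy hz
    obtain ⟨r, rfl⟩ := hy
    obtain ⟨s, rfl⟩ := hz
    rcases eq_or_ne (Φ s) 0 with h0 | h0
    · refine ⟨0, 1, by simp, ?_⟩
      have hx : (x : M) = 0 := by rw [← hyz]; simp [h0]
      rw [show x = 0 from Subtype.ext hx]; simp
    · refine ⟨r, s, h0, Subtype.ext ?_⟩
      push_cast
      rw [← hyz]
      exact div_mul_cancel₀ _ (fun h => h0 (Subtype.ext h))
  have hstr : ∀ x : W, x ≠ 0 → (∀ d, x ≠ ρ' * d) → ∃ n d, IsUnit (Φ d) ∧ x * Φ d = Φ n := by
    intro x hx0 hx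
    obtain ⟨r, s, hs, hxs⟩ := hfrac x
    have hr : Φ r ≠ 0 := by rw [← hxs]; exact mul_ne_zero hx0 hs
    obtain ⟨a, σr, r₁, hσr, hr₁, hr'⟩ := key' r hr
    obtain ⟨b, σs, s₁, hσs, hs₁, hs'⟩ := key' s hs
    have h : x * (ρ' ^ b * Φ (s₁ * σr)) = ρ' ^ a * Φ (r₁ * σs) := by
      rw [map_mul, map_mul, ← mul_assoc (ρ' ^ b), ← mul_assoc (ρ' ^ a), ← hs', ← hr', ← hxs]; ring
    have hsu : IsUnit (Φ (s₁ * σr)) := by rw [map_mul]; exact hs₁.mul hσr
    have hru : IsUnit (Φ (r₁ * σs)) := by rw [map_mul]; exact hr₁.mul hσs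
    rcases lt_trichotomy a b with hab | hab | hab
    · exfalso
      obtain ⟨d, rfl⟩ := Nat.exists_eq_add_of_le (Nat.succ_le_of_lt hab)
      have h2 : ρ' * (ρ' ^ d * x * Φ (s₁ * σr)) = Φ (r₁ * σs) := by
        apply mul_left_cancel₀ (pow_ne_zero a hρ'0)
        rw [← h, pow_add, pow_succ]; ring
      exact hρ' (isUnit_of_dvd_unit ⟨_, h2.symm⟩ hru)
    · subst hab
      refine ⟨r₁ * σs, s₁ * σr, hsu, mul_left_cancel₀ (pow_ne_zero a hρ'0) ?_⟩
      rw [← h]; ring
    · exfalso
      obtain ⟨d, rfl⟩ := Nat.exists_eq_add_of_le (Nat.succ_le_of_lt hab)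
      obtain ⟨u, hu⟩ := hsu
      refine hx (ρ' ^ d * Φ (r₁ * σs) * ↑u⁻¹) ?_
      apply mul_left_cancel₀ (pow_ne_zero b hρ'0)
      calc ρ' ^ b * x = x * (ρ' ^ b * u) * ↑u⁻¹ := by rw [mul_assoc, mul_assoc, Units.mul_inv]; ring
        _ = _ := by rw [hu, h, pow_add, pow_succ]; ring
  refine ⟨?_, ?_⟩
  · show Ideal.map (algebraMap V W) (IsLocalRing.maximalIdeal V) = IsLocalRing.maximalIdeal W
    rw [hρmax, Ideal.map_span, Set.image_singleton]
    refine le_antisymm ((Ideal.span_singleton_le_iff_mem _).2 ((IsLocalRing.mem_maximalIdeal _).2 hρ')) fun x hx => ?_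
    rw [Ideal.mem_span_singleton]
    by_contra hdvd
    obtain ⟨n, d, hd, hnd⟩ := hstr x (fun h => hdvd (h ▸ dvd_zero _)) (fun d h => hdvd ⟨d, h⟩)
    have hn : ψ (q n) = 0 := by
      rw [hψq, IsLocalRing.residue_eq_zero_iff, ← hnd]
      exact Ideal.mul_mem_right _ _ hx
    obtain ⟨t', ht', htt⟩ := hsep _ hn
    obtain ⟨σ, rfl⟩ := hqsurj t'
    rw [hψq, Ne, IsLocalRing.residue_eq_zero_iff, IsLocalRing.notMem_maximalIdeal] at ht'
    obtain ⟨r, hr⟩ := hkerq (σ * n) (by rw [map_mul, htt])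
    refine hdvd (((ht'.mul hd).dvd_mul_right).1 ⟨Φ r, ?_⟩)
    calc x * (Φ σ * Φ d) = Φ (σ * n) := by rw [map_mul, ← hnd]; ring
      _ = _ := by rw [hr, map_mul, hΦρ]
  · have hsurjψ : Function.Surjective ψ := by
      intro y
      obtain ⟨x, rfl⟩ := IsLocalRing.residue_surjective y
      by_cases hx : IsLocalRing.residue W x = 0
      · exact ⟨0, by rw [hx, map_zero]⟩
      have hxu : IsUnit x := IsLocalRing.notMem_maximalIdeal.1 fun h => hx ((IsLocalRing.residue_eq_zero_iff x).2 h)
      obtain ⟨n, d, hd, hnd⟩ := hstr x hxu.ne_zero (fun e he => hρ' (isUnit_of_dvd_unit ⟨e, he⟩ hxu))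
      obtain ⟨u, hu⟩ := hvnr (q d)
      have hd0 : ψ (q d) ≠ 0 := by
        rw [hψq, Ne, IsLocalRing.residue_eq_zero_iff]; exact IsLocalRing.notMem_maximalIdeal.2 hd
      refine ⟨q n * u, ?_⟩
      have h1 : ψ (q d) * ψ u = 1 := by
        apply mul_left_cancel₀ hd0
        rw [mul_one, ← mul_assoc, ← sq, ← map_pow, ← map_mul, ← hu]
      rw [map_mul, hψq n, ← hnd, map_mul, ← hψq d, mul_assoc, h1, mul_one]
    letI : Algebra T kW := ψ.toRingHom.toAlgebra
    haveI : IsScalarTower kV T kW := IsScalarTower.of_algebraMap_eq fun z => (ψ.commutes z).symm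
    haveI : (RingHom.ker ψ.toRingHom).IsPrime := RingHom.ker_isPrime _
    haveI : IsLocalization (RingHom.ker ψ.toRingHom).primeCompl kW :=
      { map_units := fun s => isUnit_iff_ne_zero.2 s.2
        surj := fun z => by
          obtain ⟨t, rfl⟩ := hsurjψ z
          exact ⟨(t, 1), by simp [RingHom.algebraMap_toAlgebra]⟩
        exists_of_eq := fun {x y} hxy => by
          obtain ⟨s, hs, hst⟩ := hsep (x - y) (by rw [map_sub]; exact sub_eq_zero.2 hxy)
          exact ⟨⟨s, hs⟩, sub_eq_zero.1 (by rw [← mul_sub]; exact hst)⟩ }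
    exact Groth.Agent.GeomRed21.isGeometricallyReduced_of_isLocalization (RingHom.ker ψ.toRingHom).primeCompl kW

end Groth.Agent.EtRamBC29

namespace Groth.Agent.EtRamBC29

open IsLocalRing

/-- A valuation subring of the fraction field dominating a discrete valuation ring is that ring. -/
theorem surjective_cod {B L : Type u} [CommRing B] [IsDomain B] [IsDiscreteValuationRing B] [Field L] [Algebra B L]
    [IsFractionRing B L] (V : ValuationSubring L) (h : EtRam.Dominates B (algebraMap B L) V) :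
    Function.Surjective (RingHom.codRestrict (algebraMap B L) V h.1) := by
  intro x
  obtain ⟨b₁, b₂, hb₂, hx⟩ := IsFractionRing.div_surjective (A := B) (x : L)
  rcases ValuationRing.dvd_total b₂ b₁ with ⟨c, rfl⟩ | ⟨c, rfl⟩
  · refine ⟨c, Subtype.ext ?_⟩
    show algebraMap B L c = x
    rw [← hx, map_mul, mul_div_cancel_left₀]
    exact fun h0 => nonZeroDivisors.ne_zero hb₂ (IsFractionRing.injective B L (by rw [h0, map_zero]))
  · by_cases hc : IsUnit c
    · obtain ⟨d, hd⟩ := hc.exists_right_inv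
      refine ⟨d, Subtype.ext ?_⟩
      show algebraMap B L d = x
      have hb1 : algebraMap B L b₁ ≠ 0 := fun h0 => nonZeroDivisors.ne_zero hb₂ (by
        rw [IsFractionRing.injective B L (h0.trans (map_zero _).symm), zero_mul])
      rw [← hx, map_mul, ← div_div, div_self hb1, eq_div_iff (fun h0 => hb1 (by
        have := congrArg (algebraMap B L) hd; rw [map_mul, h0, zero_mul, map_one] at this; exact absurd this zero_ne_one)),
        ← map_mul, mul_comm, hd, map_one]
    · exfalso
      have hb1 : algebraMap B L b₁ ≠ 0 := fun h0 => nonZeroDivisors.ne_zero hb₂ (by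
        rw [IsFractionRing.injective B L (h0.trans (map_zero _).symm), zero_mul])
      have hc0 : algebraMap B L c ≠ 0 := fun h0 => nonZeroDivisors.ne_zero hb₂ (by
        rw [IsFractionRing.injective B L (h0.trans (map_zero _).symm), mul_zero])
      have h1 := h.2 c ((mem_maximalIdeal c).2 hc)
      have h2 : algebraMap B L c * (x : L) = 1 := by rw [← hx, map_mul]; field_simp
      have h3 := congrArg V.valuation h2
      rw [map_mul, map_one] at h3
      exact absurd h3 (ne_of_lt (lt_of_le_of_lt (mul_le_of_le_one_right' ((V.valuation_le_one_iff _).2 x.2)) h1))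

end Groth.Agent.EtRamBC29
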